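import Cfsg.Agent.H58.HeP
import Cfsg.Agent.H96.TModel
import Cfsg.Agent.H42.SylIn

set_option autoImplicit false
set_option maxRecDepth 100000
set_option exponentiation.threshold 400000

namespace Cfsg.Agent.DHR

open Subgroup

namespace EHe3

open Cfsg.Agent.H58 Cfsg.Agent.H58.HeP

/-- the extraspecial group of order 27 and exponent 3 -/
@[ext] structure Hs where
  i : ZMod 3
  j : ZMod 3
  k : ZMod 3
deriving DecidableEq

instance decAll (p : Hs → Prop) [DecidablePred p] : Decidable (∀ v, p v) :=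
  decidable_of_iff (∀ i j k, p ⟨i, j, k⟩) ⟨fun h ⟨i, j, k⟩ => h i j k, fun h _ _ _ => h _⟩

instance decEx (p : Hs → Prop) [DecidablePred p] : Decidable (∃ v, p v) :=
  decidable_of_iff (∃ i j k, p ⟨i, j, k⟩) ⟨fun ⟨_, _, _, h⟩ => ⟨_, h⟩, fun ⟨⟨i, j, k⟩, h⟩ => ⟨i, j, k, h⟩⟩

instance : Mul Hs := ⟨fun u v => ⟨u.i + v.i, u.j + v.j, u.k + v.k + u.j * v.i⟩⟩
instance : One Hs := ⟨⟨0, 0, 0⟩⟩
instance : Inv Hs := ⟨fun u => ⟨-u.i, -u.j, -u.k + u.j * u.i⟩⟩

instance : Group Hs := Group.ofLeftAxioms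
  (fun u v w => Hs.ext (add_assoc ..) (add_assoc ..) (by
    show u.k + v.k + u.j * v.i + w.k + (u.j + v.j) * w.i = u.k + (v.k + w.k + v.j * w.i) + u.j * (v.i + w.i)
    ring))
  (by decide +kernel) (by decide +kernel)

/-- coordinates -/
def eqv : Hs ≃ ZMod 3 × ZMod 3 × ZMod 3 :=
  ⟨fun v => (v.i, v.j, v.k), fun v => ⟨v.1, v.2.1, v.2.2⟩, fun _ => rfl, fun _ => rfl⟩

theorem card_Hs : Nat.card Hs = 27 := by rw [Nat.card_congr eqv]; simp

/-- the central generator -/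
def Z : Hs := ⟨0, 0, 1⟩

theorem m1 : ∀ a : Hs, a = 1 ∨ a = Z ∨ a * a = Z ∨ ∃ b, a * b * a⁻¹ * b⁻¹ = Z := by decide +kernel

theorem m2 : ∀ a b : Hs, a * b = b * a → a ≠ 1 → b ≠ 1 → b ≠ a → b ≠ a * a → (a.j = 0 ∧ b.j = 0) ∨ (a.i = 0 ∧ b.i = 0) ∨
    ∃ s < 3, ∃ t < 3, a ^ s * b ^ t = Z ∧ (b ^ s * a⁻¹ ^ t).i ≠ 0 ∧ (b ^ s * a⁻¹ ^ t).j ≠ 0 := by decide +kernel

section
variable {G : Type*} [Group G] {p q z : G}

theorem pw_add {x : G} (h : x ^ 3 = 1) (a b : ZMod 3) : x ^ (a + b).val = x ^ a.val * x ^ b.val := by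
  rw [ZMod.val_add, ← pow_eq_pow_mod _ h, pow_add]

theorem swap_pow (zp : Commute z p) (zq : Commute z q) (r : q * p = p * q * z) (j i : ℕ) :
    q ^ j * p ^ i = p ^ i * q ^ j * z ^ (j * i) := by
  have h1 : ∀ j : ℕ, q ^ j * p = p * q ^ j * z ^ j := fun j => by
    induction j with
    | zero => simp
    | succ j ih =>
      rw [pow_succ', mul_assoc, ih, ← mul_assoc, ← mul_assoc, r, mul_assoc _ z, (zq.pow_right j).eq, pow_succ' z]
      simp only [mul_assoc]
  induction i with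
  | zero => simp
  | succ i ih =>
    rw [pow_succ, ← mul_assoc, ih, mul_assoc, (zp.pow_left _).eq, ← mul_assoc, mul_assoc (p ^ i), h1, mul_add,
      mul_one, add_comm (j * i), pow_add z]
    simp only [mul_assoc]

/-- the homomorphism from the model -/
def hom (p3 : p ^ 3 = 1) (q3 : q ^ 3 = 1) (z3 : z ^ 3 = 1) (zp : Commute z p) (zq : Commute z q)
    (r : q * p = p * q * z) : Hs →* G :=
  MonoidHom.mk' (fun v => p ^ v.i.val * q ^ v.j.val * z ^ v.k.val) fun u v => by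
    show p ^ (u.i + v.i).val * q ^ (u.j + v.j).val * z ^ (u.k + v.k + u.j * v.i).val = _
    rw [pw_add p3, pw_add q3, pw_add z3, pw_add z3, ZMod.val_mul, ← pow_eq_pow_mod _ z3]
    have c : Commute (z ^ u.k.val) (p ^ v.i.val * q ^ v.j.val) := (zp.pow_pow _ _).mul_right (zq.pow_pow _ _)
    calc _ = p ^ u.i.val * (p ^ v.i.val * q ^ u.j.val) * (q ^ v.j.val * z ^ (u.j.val * v.i.val)) *
          (z ^ u.k.val * z ^ v.k.val) := by
            rw [← pow_add z, ← pow_add z, add_comm _ (u.j.val * v.i.val), pow_add z]; simp only [mul_assoc]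
      _ = p ^ u.i.val * (q ^ u.j.val * p ^ v.i.val) * q ^ v.j.val * (z ^ u.k.val * z ^ v.k.val) := by
            rw [swap_pow zp zq r, ← (zq.pow_pow _ _).eq]; simp only [mul_assoc]
      _ = p ^ u.i.val * q ^ u.j.val * (p ^ v.i.val * q ^ v.j.val * z ^ u.k.val) * z ^ v.k.val := by
            simp only [mul_assoc]
      _ = _ := by rw [← c.eq]; simp only [mul_assoc]

end

def pw : List ℕ := [2, 3, 6, 4, 7, 4, 6, 3, 2, 4]
def qw : List ℕ := [3, 2, 4, 3, 4, 6, 7, 4, 3, 2, 4, 3, 4, 7, 4, 5, 3, 4, 2, 3, 4, 7, 6, 4, 3, 4, 2, 3]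
def zw : List ℕ := [4, 5]
def uw : List ℕ := [2, 1, 2]
def vw : List ℕ := [3, 2, 1, 2, 6, 4, 7, 4, 6, 3]

def prs : List (List ℕ × List ℕ) :=
  [(pw ++ pw ++ pw, []), (qw ++ qw ++ qw, []), (zw ++ zw ++ zw, []), (zw ++ pw, pw ++ zw), (zw ++ qw, qw ++ zw),
   (qw ++ pw, pw ++ qw ++ zw), (uw ++ uw, []), (uw ++ pw, pw ++ uw), (uw ++ zw, zw ++ uw),
   (vw ++ vw, []), (vw ++ qw, qw ++ vw), (vw ++ zw, zw ++ vw)]

theorem ea : ∀ t < 12, eqsAt HeM.nets 2058 12 prs t = 0 := by decide +kernel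

/-- the word of an element of the model -/
def wd (i j k : ℕ) : List ℕ :=
  (List.replicate i pw).flatten ++ (List.replicate j qw).flatten ++ (List.replicate k zw).flatten

theorem nf : ∀ i < 3, ∀ j < 3, ∀ k < 3, i ≠ 0 → j ≠ 0 → H96.fixM HeM.nets 2058 12 (wd i j k) = 0 := by
  decide +kernel

/-- the element given by a word -/
noncomputable def W (w : List ℕ) : Spor.He := wv M.el w

theorem W_append (u v : List ℕ) : W (u ++ v) = W u * W v := by simp [W, wv]

theorem W_nil : W [] = 1 := rfl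

theorem W_wd (i j k : ℕ) : W (wd i j k) = W pw ^ i * W qw ^ j * W zw ^ k := by
  rw [wd, W_append, W_append, W, W, W, wv_replicate, wv_replicate, wv_replicate]; rfl

theorem eqs : ∀ p ∈ prs, W p.1 = W p.2 := M.wv_eq inj (by decide) ea

theorem mvW {w : List ℕ} {a b : ℕ} (h : appW HeM.nets w (2 ^ b) = 2 ^ a) : M.φ (W w) a = b := M.apply_wv' h

theorem ne1 {w : List ℕ} (a b : ℕ) (h : appW HeM.nets w (2 ^ b) = 2 ^ a) (hab : a ≠ b) : W w ≠ 1 := fun e => by
  have := mvW h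
  rw [e, map_one] at this
  exact hab this

theorem nofix {i j k : ℕ} (hi : i < 3) (hj : j < 3) (hk : k < 3) (i0 : i ≠ 0) (j0 : j ≠ 0) {m : Spor.He}
    (e : m * W zw * m⁻¹ = W pw ^ i * W qw ^ j * W zw ^ k) : False := by
  have h0 : M.φ (W zw) 0 = 0 := mvW (by decide +kernel)
  have h1 : M.φ m 0 < M.N := perm_lt (M.φ_fix hgen m) (by decide)
  have h2 := (H96.testBit_fixM (b := 12) M.hN (by decide) (wd i j k) (M.φ m 0)).2 ⟨h1, by
    rw [← M.φ_wv]
    show M.φ (W (wd i j k)) _ = _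
    rw [W_wd, ← e, map_mul, map_mul, map_inv, Equiv.Perm.mul_apply, Equiv.Perm.mul_apply, pinv_self, h0]⟩
  rw [show H96.fixM M.nets M.N 12 (wd i j k) = 0 from nf i hi j hj k hk i0 j0] at h2
  simp at h2

end EHe3

open EHe3 in
/-- a subgroup `3²` of He normalised by an element acting with order four is centralised by an involution -/
theorem he_three (x y n : Spor.He) (x3 : x ^ 3 = 1) (x1 : x ≠ 1) (c : x * y = y * x) (hy : y ∉ zpowers x)
    (h1 : n * x * n⁻¹ = y) (h2 : n * y * n⁻¹ = x⁻¹) :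
    ∃ s : Spor.He, s ≠ 1 ∧ s * s = 1 ∧ s * x = x * s ∧ s * y = y * s := by
  have := H58.HeP.finite
  have : Fact (Nat.Prime 3) := ⟨by norm_num⟩
  have h := eqs
  simp only [prs, List.forall_mem_cons, W_append, W_nil] at h
  obtain ⟨p3, q3, z3, zp, zq, r, u2, up, uz, v2, vq, vz, -⟩ := h
  let φ := hom ((pow_three' _).trans p3) ((pow_three' _).trans q3) ((pow_three' _).trans z3) zp zq r
  have hφ : ∀ v, φ v = W pw ^ v.i.val * W qw ^ v.j.val * W zw ^ v.k.val := fun _ => rfl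
  have φZ : φ Z = W zw := by
    rw [hφ]
    show W pw ^ 0 * W qw ^ 0 * W zw ^ 1 = _
    simp
  have z1 : W zw ≠ 1 := ne1 2 3 (by decide +kernel) (by decide)
  have inj : Function.Injective φ := (injective_iff_map_eq_one φ).2 fun a e => by
    rcases m1 a with k | k | k | ⟨b, k⟩
    · exact k
    · exact absurd (by rw [← φZ, ← k, e]) z1
    · exact absurd (by rw [← φZ, ← k, map_mul, e, one_mul]) z1
    · exact absurd (by rw [← φZ, ← k]; simp [e]) z1
  have cP : Nat.card φ.range = 27 := by rw [← card_Hs]; exact Nat.card_congr (MonoidHom.ofInjective inj).symm.toEquiv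
  have sP : H42.SylIn 3 φ.range ⊤ := ⟨le_top, IsPGroup.of_card (n := 3) cP, fun d => by
    have := φ.range.card_mul_index
    rw [relIndex_top_right] at d
    rw [cP, H58.HeP.card_eq] at this
    omega⟩
  have pg : ∀ a : Spor.He, a ^ 3 = 1 → IsPGroup 3 (zpowers a) := fun a ha => IsPGroup.of_card_dvd_pow (n := 1) (by
    rw [Nat.card_zpowers, orderOf_dvd_iff_pow_eq_one, pow_one, ha])
  obtain ⟨g, -, hg⟩ := sP.exists_conj ((pg x x3).to_sup_of_normal_left' (pg y (by rw [← h1, conj_pow, x3]; group))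
    (zpowers_le.2 (centralizer_le_normalizer _ (by
      rintro _ ⟨k, rfl⟩
      exact (Commute.zpow_left c k).eq)))) le_top
  obtain ⟨a, ha⟩ := hg x (mem_sup_left (mem_zpowers x))
  obtain ⟨b, hb⟩ := hg y (mem_sup_right (mem_zpowers y))
  have key : (∃ s : Spor.He, s ≠ 1 ∧ s * s = 1 ∧ Commute s (φ a) ∧ Commute s (φ b)) := by
    rcases m2 a b (inj (by rw [map_mul, map_mul, ha, hb, conj_mul, conj_mul, c]))
      (fun e => x1 (by rw [e, map_one] at ha; exact conj_eq_one_iff.1 ha.symm))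
      (fun e => hy (by rw [e, map_one] at hb; rw [conj_eq_one_iff.1 hb.symm]; exact one_mem _))
      (fun e => hy (by rw [e, ha] at hb; rw [← (MulAut.conj g).injective hb]; exact mem_zpowers x))
      (fun e => hy (by
        rw [e, map_mul, ha, conj_mul] at hb
        rw [← (MulAut.conj g).injective hb]
        exact mul_mem (mem_zpowers x) (mem_zpowers x))) with ⟨e1, e2⟩ | ⟨e1, e2⟩ | ⟨s, -, t, -, e, i0, j0⟩
    · have k : ∀ v : Hs, v.j = 0 → Commute (W uw) (φ v) := fun v e => by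
        rw [hφ, e, ZMod.val_zero, pow_zero, mul_one]
        exact (Commute.pow_right up _).mul_right (Commute.pow_right uz _)
      exact ⟨_, ne1 4 13 (by decide +kernel) (by decide), u2, k a e1, k b e2⟩
    · have k : ∀ v : Hs, v.i = 0 → Commute (W vw) (φ v) := fun v e => by
        rw [hφ, e, ZMod.val_zero, pow_zero, one_mul]
        exact (Commute.pow_right vq _).mul_right (Commute.pow_right vz _)
      exact ⟨_, ne1 0 19 (by decide +kernel) (by decide), v2, k a e1, k b e2⟩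
    · refine (nofix (ZMod.val_lt (b ^ s * a⁻¹ ^ t).i) (ZMod.val_lt (b ^ s * a⁻¹ ^ t).j) (ZMod.val_lt (b ^ s * a⁻¹ ^ t).k)
        (by rwa [Ne, ZMod.val_eq_zero]) (by rwa [Ne, ZMod.val_eq_zero]) (m := g * n * g⁻¹) ?_).elim
      rw [← hφ, ← φZ, ← e, map_mul, map_mul, map_pow, map_pow, map_pow, map_pow, map_inv, ha, hb, ← conj_mul,
        ← conj_pow, ← conj_pow]
      congr 2
      · rw [← h1]; group
      · rw [conj_inv (a := x), ← h2]; group
  obtain ⟨s, s1, s2, c1, c2⟩ := key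
  rw [ha] at c1
  rw [hb] at c2
  refine ⟨g⁻¹ * s * g, fun k => s1 ?_, ?_, ?_, ?_⟩
  · rw [show s = g * (g⁻¹ * s * g) * g⁻¹ by group, k]; group
  · rw [show g⁻¹ * s * g * (g⁻¹ * s * g) = g⁻¹ * (s * s) * g by group, s2]; group
  · rw [show g⁻¹ * s * g * x = g⁻¹ * (s * (g * x * g⁻¹)) * g by group, c1.eq]; group
  · rw [show g⁻¹ * s * g * y = g⁻¹ * (s * (g * y * g⁻¹)) * g by group, c2.eq]; group

end Cfsg.Agent.DHR
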