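import Mathlib
import Cfsg.Prelude.Def_Classical
import Cfsg.Agent.U52.Emb

set_option autoImplicit false

namespace Cfsg.Agent.DHR

open Subgroup

namespace U5

open H29 H29.F4 Matrix H10 U52

/-- circulant matrices -/
def ci (a b c d e : F4) : Matrix (Fin 5) (Fin 5) F4 :=
  !![a, b, c, d, e; e, a, b, c, d; d, e, a, b, c; c, d, e, a, b; b, c, d, e, a]

theorem ci_cl : ∀ a b c d e : F4, (ci a b c d e)ᵀ * (ci a b c d e).map fs = 1 →
    ci a b c d e * ci a b c d e * ci a b c d e = 1 → (ci a b c d e).det = 1 →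
    ci a b c d e = 1 ∨ (c = b ∧ d = b ∧ e = b ∧ b ≠ 0 ∧ a ≠ 1) := by decide +kernel

theorem ci_eig : ∀ a b : F4, b ≠ 0 → ∀ u0 u1 u2 u3 u4 : F4,
    ci a b b b b *ᵥ ![u0, u1, u2, u3, u4] = a • ![u0, u1, u2, u3, u4] →
    ![u0, u1, u2, u3, u4] = u0 • (1 : Fin 5 → F4) := by decide +kernel

theorem ci_one : ∀ a b : F4, ci a b b b b *ᵥ (1 : Fin 5 → F4) = a • (1 : Fin 5 → F4) := by decide +kernel

theorem y0_facts : (ci 0 1 0 0 0)ᵀ * (ci 0 1 0 0 0).map fs = 1 ∧ (ci 0 1 0 0 0).det = 1 ∧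
    ci 0 1 0 0 0 ≠ 1 ∧ ci 0 1 0 0 0 * ci 0 1 0 0 0 * ci 0 1 0 0 0 * ci 0 1 0 0 0 * ci 0 1 0 0 0 = 1 := by
  decide +kernel

theorem circ {M : Matrix (Fin 5) (Fin 5) F4} (h : ci 0 1 0 0 0 * M = M * ci 0 1 0 0 0) :
    M = ci (M 0 0) (M 0 1) (M 0 2) (M 0 3) (M 0 4) := by
  have k : ∀ i j, M (i + 1) (j + 1) = M i j := fun i j => by
    have := congrFun (congrFun h i) (j + 1)
    fin_cases i <;> fin_cases j <;> simpa [ci, Matrix.mul_apply, Fin.sum_univ_five] using this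
  have k1 : ∀ j, M 1 j = M 0 (j - 1) := fun j => by simpa using k 0 (j - 1)
  have k2 : ∀ j, M 2 j = M 1 (j - 1) := fun j => by simpa using k 1 (j - 1)
  have k3 : ∀ j, M 3 j = M 2 (j - 1) := fun j => by simpa using k 2 (j - 1)
  have k4 : ∀ j, M 4 j = M 3 (j - 1) := fun j => by simpa using k 3 (j - 1)
  ext i j
  fin_cases i <;> fin_cases j <;> simp [ci, k1, k2, k3, k4] <;> rfl

/-- the permutation matrix of a cycle of length five -/
noncomputable def y0 : SU 5 F4 2 :=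
  mkSU (ci 0 1 0 0 0) ((isIsom_iff _).2 (by rw [cj_eq]; exact y0_facts.1)) y0_facts.2.1

theorem y0_order : orderOf y0 = 5 := by
  have : Fact (Nat.Prime 5) := ⟨by norm_num⟩
  refine orderOf_eq_prime (sm_injective ?_) fun e => y0_facts.2.2.1 (congrArg sm e)
  simp only [pow_succ, pow_zero, one_mul, sm_mul, sm_one]
  exact y0_facts.2.2.2

theorem core {A : Subgroup (SU 5 F4 2)} (hA : ⁅A, A⁆ = A) {c : SU 5 F4 2} (hc : c ∈ A)
    (cA : ∀ a ∈ A, a * c = c * a) (c3 : c ^ 3 = 1) (hy : y0 ∈ A) : c = 1 := by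
  have e := circ (M := sm c) (congrArg sm (cA _ hy))
  generalize sm c 0 0 = a0, sm c 0 1 = a1, sm c 0 2 = a2, sm c 0 3 = a3, sm c 0 4 = a4 at e
  have h1 := (isIsom_iff _).1 (sm_isIsom c)
  have h2 : sm c * sm c * sm c = 1 := by rw [← sm_mul, ← sm_mul, ← pow_three', c3, sm_one]
  have h3 := sm_det c
  rw [cj_eq] at h1
  rw [e] at h1 h2 h3
  rcases ci_cl _ _ _ _ _ h1 h2 h3 with q | ⟨rfl, rfl, rfl, q1, q2⟩
  · exact sm_injective (e.trans q)
  exfalso
  have k : ∀ g ∈ A, ∃ l : F4, sm g *ᵥ (1 : Fin 5 → F4) = l • (1 : Fin 5 → F4) := fun g hg => by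
    have e1 : sm g *ᵥ (1 : Fin 5 → F4) = ![(sm g *ᵥ 1) 0, (sm g *ᵥ 1) 1, (sm g *ᵥ 1) 2, (sm g *ᵥ 1) 3,
        (sm g *ᵥ 1) 4] := by
      ext i; fin_cases i <;> rfl
    refine ⟨_, e1.trans (ci_eig a0 _ q1 _ _ _ _ _ ?_)⟩
    rw [← e1, ← e, mulVec_mulVec, ← sm_mul, ← cA g hg, sm_mul, ← mulVec_mulVec, e, ci_one, mulVec_smul]
  have inj : ∀ {l m : F4}, l • (1 : Fin 5 → F4) = m • (1 : Fin 5 → F4) → l = m := fun h => by
    simpa using congrFun h 0
  have : A ≤ MulAction.stabilizer (SU 5 F4 2) (1 : Fin 5 → F4) := by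
    rw [← hA, commutator_le]
    intro g hg h hh
    obtain ⟨l1, e1⟩ := k g hg
    obtain ⟨l2, e2⟩ := k h hh
    obtain ⟨l3, e3⟩ := k _ (inv_mem hg)
    obtain ⟨l4, e4⟩ := k _ (inv_mem hh)
    have f1 : l3 * l1 = 1 := inj (by rw [mul_smul, ← e1, ← mulVec_smul, ← e3, mulVec_mulVec, sm_mul_inv]; simp)
    have f2 : l4 * l2 = 1 := inj (by rw [mul_smul, ← e2, ← mulVec_smul, ← e4, mulVec_mulVec, sm_mul_inv]; simp)
    rw [MulAction.mem_stabilizer_iff, sm_smul, commutatorElement_def, sm_mul, sm_mul, sm_mul, ← mulVec_mulVec,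
      ← mulVec_mulVec, ← mulVec_mulVec]
    simp only [e1, e2, e3, e4, mulVec_smul, smul_smul]
    rw [show l4 * l3 * l2 * l1 = l3 * l1 * (l4 * l2) by ring, f1, f2, one_mul, one_smul]
  have := this hc
  rw [MulAction.mem_stabilizer_iff, sm_smul, e, ci_one] at this
  exact q2 (inj (this.trans (one_smul _ _).symm))

theorem core' {A : Subgroup (SU 5 F4 2)} (hA : ⁅A, A⁆ = A) {c y : SU 5 F4 2} (hc : c ∈ A)
    (cA : ∀ a ∈ A, a * c = c * a) (c3 : c ^ 3 = 1) (hy : y ∈ A) (y5 : orderOf y = 5) : c = 1 := by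
  have : Fact (Nat.Prime 5) := ⟨by norm_num⟩
  have : Finite (SU 5 F4 2) := Nat.finite_of_card_ne_zero (by rw [U52.card_SU]; norm_num)
  have syl : ∀ x : SU 5 F4 2, orderOf x = 5 → ∃ P : Sylow 5 (SU 5 F4 2), (P : Subgroup _) = zpowers x :=
    fun x hx => by
      have h1 : Nat.card (zpowers x) = 5 ^ 1 := by rw [Nat.card_zpowers, hx]; rfl
      have h2 := (zpowers x).card_mul_index
      rw [h1, U52.card_SU] at h2
      exact ⟨(IsPGroup.of_card h1).toSylow (by omega), rfl⟩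
  obtain ⟨P, hP⟩ := syl y y5
  obtain ⟨Q, hQ⟩ := syl y0 y0_order
  obtain ⟨g, hg⟩ := MulAction.exists_smul_eq (SU 5 F4 2) P Q
  let e := MulAut.conj g
  have := core (A := A.map e.toMonoidHom) (c := e c) (by rw [← map_commutator, hA]) ⟨c, hc, rfl⟩
    (by rintro _ ⟨a, ha, rfl⟩; exact (map_mul e _ _).symm.trans ((congrArg e (cA a ha)).trans (map_mul e _ _)))
    (by rw [← map_pow, c3, map_one]) (by
      have m : y0 ∈ ((g • P : Sylow 5 (SU 5 F4 2)) : Subgroup _) := by rw [hg, hQ]; exact mem_zpowers _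
      rw [Sylow.coe_subgroup_smul, hP] at m
      exact map_mono (zpowers_le.2 hy) m)
  exact e.injective (this.trans (map_one e).symm)

end U5

/-- a perfect subgroup of `U₅(2)` with an element of order five has no central element of order three -/
theorem u5_center {F : Type} [Field F] [Fintype F] (hF : Fintype.card F = 4) {A : Subgroup (PSU 5 F 2)}
    (hA : ⁅A, A⁆ = A) {c y : PSU 5 F 2} (hc : c ∈ A) (cA : ∀ a ∈ A, a * c = c * a) (c3 : c ^ 3 = 1)
    (hy : y ∈ A) (y5 : orderOf y = 5) : c = 1 := by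
  obtain ⟨e⟩ : Nonempty (PSU 5 F 2 ≃* SU 5 H29.F4 2) := by
    have : Fact (Fintype.card H29.F4 = 2 ^ 2) := ⟨rfl⟩
    have hZ : center (SU 5 H29.F4 2) = ⊥ :=
      card_eq_one.1 (H10.card_center_SU (F := H29.F4) (q := 2) (n := 5) (by norm_num))
    exact ⟨(H29.psuEquiv 5 2 (H29.equivF4 hF)).trans
      ((QuotientGroup.quotientMulEquivOfEq hZ).trans QuotientGroup.quotientBot)⟩
  have := U5.core' (A := A.map e.toMonoidHom) (c := e c) (y := e y) (by rw [← map_commutator, hA]) ⟨c, hc, rfl⟩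
    (by rintro _ ⟨a, ha, rfl⟩; exact (map_mul e _ _).symm.trans ((congrArg e (cA a ha)).trans (map_mul e _ _)))
    (by rw [← map_pow, c3, map_one]) ⟨y, hy, rfl⟩ (by rw [MulEquiv.orderOf_eq, y5])
  exact e.injective (this.trans (map_one e).symm)

end Cfsg.Agent.DHR
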