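import Cfsg.Agent.H36.FxA

/-! The dihedral group of order 8 inside a group: inner and outer normalising elements. -/

set_option autoImplicit false

namespace Cfsg.Agent.DHR

open Cfsg Subgroup Cfsg.Agent.H49 DihedralGroup
open scoped commutatorElement

abbrev D8 : Type := DihedralGroup 4

/-- the standard outer automorphism -/
def om : D8 → D8
  | r i => r i
  | sr i => sr (i + 1)

theorem q_gen : ∀ x : D8, ∃ i : Fin 4, x = r 1 ^ (i : ℕ) ∨ x = sr 0 * r 1 ^ (i : ℕ) := by decide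

theorem q_aut : ∀ a b : D8, a * a ≠ 1 → b * b = 1 → b * a ≠ a * b → ∃ d : D8,
    (a = d * r 1 * d⁻¹ ∧ b = d * sr 0 * d⁻¹) ∨ (a = d * r 1 * d⁻¹ ∧ b = d * sr 1 * d⁻¹) := by decide

theorem om_mul : ∀ x y : D8, om (x * y) = om x * om y := by decide

theorem q_z : ∀ x : D8, x ≠ 1 → x = r 2 ∨ ∃ g : D8, x * (g * x * g⁻¹) = r 2 := by decide

theorem q_cen : ∀ x : D8, (∀ y, y * x = x * y) → x = 1 ∨ x = r 2 := by decide

theorem q_zc : ∀ x : D8, x * r 2 = r 2 * x := by decide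

theorem q_om2 : ∀ d e : D8, ∃ c : D8, ∀ x, d * om (e * om x * e⁻¹) * d⁻¹ = c * x * c⁻¹ := by decide

theorem q_omz : ∀ d x : D8, x * x = 1 → x * (d * om x * d⁻¹) = d * om x * d⁻¹ * x →
    x = 1 ∨ x = r 2 := by decide

theorem q_om4 : ∀ d : D8, (sr 0 * (d * om (sr 0) * d⁻¹)) ^ 2 = r 2 := by decide

variable {G : Type*} [Group G] {φ : D8 →* G}

/-- `n` acts on the image of `φ` as `f` -/
def Act (φ : D8 →* G) (n : G) (f : D8 → D8) : Prop := ∀ x, n * φ x * n⁻¹ = φ (f x)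

theorem Act.mul {n m : G} {f g : D8 → D8} (a : Act φ n f) (b : Act φ m g) :
    Act φ (n * m) fun x => f (g x) := fun x => by
  rw [← a, ← b]; group

theorem act_self (d : D8) : Act φ (φ d) fun x => d * x * d⁻¹ := fun x => by simp

theorem mem_cent_range {c : G} : c ∈ 𝒞(φ.range) ↔ ∀ x, φ x * c = c * φ x :=
  ⟨fun h x => h _ ⟨x, rfl⟩, fun h => by rintro _ ⟨x, rfl⟩; exact h x⟩

/-- `D C(D)` -/
def In (D : Subgroup G) : Subgroup G := D ⊔ 𝒞(D)

theorem mem_In {n : G} : n ∈ In φ.range ↔ ∃ d, ∃ c ∈ 𝒞(φ.range), n = φ d * c := by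
  rw [In, mem_sup_of_norm_left (cent_le_norm _)]
  exact ⟨fun ⟨_, ⟨d, e⟩, c, hc, h⟩ => ⟨d, c, hc, e ▸ h⟩, fun ⟨d, c, hc, h⟩ => ⟨_, ⟨d, rfl⟩, c, hc, h⟩⟩

theorem cj_In (g : G) (D : Subgroup G) : cj g (In D) = In (cj g D) := by
  rw [In, cj_sup, cj_centralizer, In]

theorem Act.mem_In {n : G} {d : D8} (a : Act φ n fun x => d * x * d⁻¹) : n ∈ In φ.range :=
  DHR.mem_In.2 ⟨d, (φ d)⁻¹ * n, mem_cent_range.2 fun x => by
    have := a x
    simp only [map_mul, map_inv] at this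
    calc _ = (φ d)⁻¹ * (φ d * φ x * (φ d)⁻¹) * n := by group
      _ = _ := by rw [← this]; group, by group⟩

theorem act_ext {n : G} {f : D8 → D8} (hf : ∀ x y, f (x * y) = f x * f y)
    (h1 : n * φ (r 1) * n⁻¹ = φ (f (r 1))) (h2 : n * φ (sr 0) * n⁻¹ = φ (f (sr 0))) : Act φ n f := by
  let F : D8 →* D8 := MonoidHom.mk' f hf
  have k : ∀ i : ℕ, n * φ (r 1 ^ i) * n⁻¹ = φ (F (r 1 ^ i)) := fun i => by
    rw [map_pow, map_pow, map_pow, ← conj_pow, h1]; rfl
  intro x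
  obtain ⟨i, rfl | rfl⟩ := q_gen x
  · exact k i
  · rw [hf, map_mul, map_mul, ← conj_mul, h2, k]; rfl

theorem act_cases (hφ : Function.Injective φ) {n : G} (hn : n ∈ 𝒩(φ.range)) :
    n ∈ In φ.range ∨ ∃ d, Act φ n fun x => d * om x * d⁻¹ := by
  obtain ⟨a, ha⟩ := conj_mem_of_norm le_rfl hn (⟨r 1, rfl⟩ : φ (r 1) ∈ φ.range)
  obtain ⟨b, hb⟩ := conj_mem_of_norm le_rfl hn (⟨sr 0, rfl⟩ : φ (sr 0) ∈ φ.range)
  have key : ∀ x, n * φ x * n⁻¹ = 1 → x = 1 := fun x h => hφ (by simpa using h)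
  obtain ⟨d, ⟨h1, h2⟩ | ⟨h1, h2⟩⟩ := q_aut a b (fun e => by
      have := key (r 1 * r 1) (by rw [map_mul, ← conj_mul, ← ha, ← map_mul, e, map_one])
      revert this; decide)
    (hφ (by rw [map_mul, hb, conj_mul, ← map_mul, show (sr 0 * sr 0 : D8) = 1 by decide]; simp))
    (fun e => by
      have := congrArg φ e
      rw [map_mul, map_mul, ha, hb, conj_mul, conj_mul, mul_left_inj, mul_right_inj, ← map_mul,
        ← map_mul] at this
      have := hφ this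
      revert this; decide)
  · exact Or.inl (Act.mem_In (d := d) (act_ext (fun x y => by group) (h1 ▸ ha.symm) (h2 ▸ hb.symm)))
  · exact Or.inr ⟨d, act_ext (fun x y => by rw [om_mul]; group) (by rw [← ha, h1]; rfl)
      (by rw [← hb, h2]; rfl)⟩

theorem out_mul (hφ : Function.Injective φ) {n m : G} (hn : n ∈ 𝒩(φ.range)) (hm : m ∈ 𝒩(φ.range))
    (n1 : n ∉ In φ.range) (m1 : m ∉ In φ.range) : n * m ∈ In φ.range := by
  obtain ⟨d, a⟩ := (act_cases hφ hn).resolve_left n1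
  obtain ⟨e, b⟩ := (act_cases hφ hm).resolve_left m1
  obtain ⟨c, hc⟩ := q_om2 d e
  exact Act.mem_In (d := c) fun x => (a.mul b x).trans (congrArg φ (hc x))

theorem z_fix (hφ : Function.Injective φ) {n : G} (hn : n ∈ 𝒩(φ.range)) :
    n * φ (r 2) = φ (r 2) * n := by
  rw [← mul_inv_eq_iff_eq_mul]
  rcases act_cases hφ hn with h | ⟨d, a⟩
  · obtain ⟨d, c, hc, rfl⟩ := mem_In.1 h
    rw [mul_assoc (φ d), ← mem_cent_range.1 hc, ← mul_assoc, ← map_mul, q_zc, map_mul]; group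
  · refine (a _).trans (congrArg φ ?_)
    change d * r 2 * d⁻¹ = r 2
    rw [q_zc, mul_inv_cancel_right]

theorem z_ne (hφ : Function.Injective φ) : φ (r 2) ≠ 1 := fun e => by
  have := hφ (e.trans φ.map_one.symm)
  revert this; decide

theorem z_sq : φ (r 2) * φ (r 2) = 1 := by
  rw [← map_mul, show (r 2 * r 2 : D8) = 1 by decide, map_one]

/-- a nontrivial subgroup of `D` normalised by `D` contains `z` -/
theorem z_mem {Y : Subgroup G} (hY : φ.range ≤ 𝒩(Y)) {y : G} (h1 : y ∈ Y) (h2 : y ∈ φ.range)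
    (y1 : y ≠ 1) : φ (r 2) ∈ Y := by
  obtain ⟨x, rfl⟩ := h2
  rcases q_z x (fun e => y1 (by rw [e, map_one])) with rfl | ⟨g, e⟩
  · exact h1
  · rw [← e, map_mul, map_mul, map_mul, map_inv]
    exact mul_mem h1 (conj_mem_of_norm hY ⟨g, rfl⟩ h1)

theorem cen_range (hφ : Function.Injective φ) {y : G} (h1 : y ∈ φ.range) (h2 : y ∈ 𝒞(φ.range)) :
    y = 1 ∨ y = φ (r 2) := by
  obtain ⟨x, rfl⟩ := h1
  rcases q_cen x fun y => hφ (by rw [map_mul, map_mul, mem_cent_range.1 h2]) with rfl | rfl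
  exacts [Or.inl (map_one φ), Or.inr rfl]

/-- an element of a normalised elementary abelian subgroup is inner -/
theorem in_of_elem (hφ : Function.Injective φ) {A : Subgroup G} (hA : φ.range ≤ 𝒩(A))
    (h2 : ∀ a ∈ A, a * a = 1) {a : G} (ha : a ∈ A) (hn : a ∈ 𝒩(φ.range)) : a ∈ In φ.range := by
  by_contra c
  obtain ⟨d, h⟩ := (act_cases hφ hn).resolve_left c
  have h1 := h2 _ (mul_mem (conj_mem_of_norm hA ⟨sr 0, rfl⟩ ha) (inv_mem ha))
  refine z_ne hφ ?_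
  rw [← q_om4 d, map_pow, map_mul, ← h (sr 0), pow_two, ← h1, ← map_inv,
    show (sr 0 : D8)⁻¹ = sr 0 from rfl]
  group

def cf (g : G) (φ : D8 →* G) : D8 →* G := (MulAut.conj g).toMonoidHom.comp φ

theorem cf_apply (g : G) (x : D8) : cf g φ x = g * φ x * g⁻¹ := rfl

theorem range_cf (g : G) : (cf g φ).range = cj g φ.range := by
  rw [cf, MonoidHom.range_comp]; rfl

theorem cf_inj (hφ : Function.Injective φ) (g : G) : Function.Injective (cf g φ) :=
  (MulAut.conj g).injective.comp hφ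

theorem card_range (hφ : Function.Injective φ) : Nat.card φ.range = 8 := by
  rw [← Nat.card_congr (MonoidHom.ofInjective hφ).toEquiv, nat_card]

end Cfsg.Agent.DHR
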