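import Cfsg.Agent.DHR.D8

/-! 2-groups of type `D₈ ≀ 2` have sectional rank at most 4. -/

set_option autoImplicit false

namespace Cfsg.Agent.DHR

open Cfsg Subgroup Cfsg.Agent.H49 Cfsg.Agent.H50 Cfsg.Agent.H85 DihedralGroup Cfsg.Agent.H36.Fx
open scoped commutatorElement

variable {X : Type*} [Group X]

structure Wr (φ : D8 →* X) (N : Subgroup X) (s : X) : Prop where
  two : IsPGroup 2 X
  inj : Function.Injective φ
  le : φ.range ≤ N
  nrm : N ≤ 𝒩(φ.range)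
  sN : s ∈ 𝒩(N)
  s1 : s ∉ N
  ix : ∀ g ∈ 𝒩(N), g ∉ N → s⁻¹ * g ∈ N
  cz : 𝒞[φ (r 2)] ≤ N
  dis : ∀ x y, φ x = cf s φ y → x = 1
  V : ∀ v ∈ N, v ∈ 𝒞(φ.range) → v ∈ 𝒞((cf s φ).range) →
    v = 1 ∨ v = φ (r 2) ∨ v = cf s φ (r 2) ∨ v = φ (r 2) * cf s φ (r 2)

namespace Wr

variable {φ : D8 →* X} {N : Subgroup X} {s : X} (h : Wr φ N s)
include h

theorem ss : s * s ∈ N := by
  simpa using inv_mem (h.ix s⁻¹ (inv_mem h.sN) fun c => h.s1 (inv_mem_iff.1 c))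

theorem le' : (cf s φ).range ≤ N := by rw [range_cf]; exact cj_le_of_mem_norm h.le h.sN

theorem nrm' : N ≤ 𝒩((cf s φ).range) := by
  rw [range_cf, ← cj_normalizer, ← cj_eq_of_mem_norm h.sN]; exact cj_mono s h.nrm

theorem bot : φ.range ⊓ (cf s φ).range = ⊥ := le_bot_iff.1 (by
  rintro _ ⟨⟨x, rfl⟩, y, e⟩
  rw [h.dis x y e.symm, map_one]; exact one_mem _)

theorem cc (x y : D8) : φ x * cf s φ y = cf s φ y * φ x :=
  (cent_of_norm_of_disjoint (h.le.trans h.nrm') (h.le'.trans h.nrm) h.bot ⟨x, rfl⟩ _ ⟨y, rfl⟩).symm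

theorem range2 : (cf s (cf s φ)).range = φ.range := by
  rw [range_cf, range_cf, cj_cj, cj_eq_of_mem_norm (h.nrm h.ss)]

theorem z2 : cf s (cf s φ) (r 2) = φ (r 2) := by
  rw [cf_apply, cf_apply]
  calc _ = s * s * φ (r 2) * (s * s)⁻¹ := by group
    _ = _ := by rw [z_fix h.inj (h.nrm h.ss), mul_inv_cancel_right]

theorem symm : Wr (cf s φ) N s where
  two := h.two
  inj := cf_inj h.inj s
  le := h.le'
  nrm := h.nrm'
  sN := h.sN
  s1 := h.s1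
  ix := h.ix
  cz := by rw [cf_apply, ← cj_cent1]; exact cj_le_of_mem_norm h.cz h.sN
  dis := fun x y e => by
    have : cf s φ x ∈ φ.range ⊓ (cf s φ).range := ⟨h.range2.le ⟨y, e.symm⟩, x, rfl⟩
    rw [h.bot, mem_bot] at this
    exact cf_inj h.inj s (this.trans (map_one _).symm)
  V := fun v hv h1 h2 => by
    rw [h.range2] at h2
    rw [h.z2, ← h.cc]
    have := h.V v hv h2 h1
    tauto

theorem range_of {u : X} (hu : u ∈ 𝒩(N)) (u1 : u ∉ N) : (cf u φ).range = (cf s φ).range := by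
  rw [range_cf, range_cf, ← mul_inv_cancel_left s u, H49.cj_mul, cj_eq_of_mem_norm (h.nrm (h.ix u hu u1))]

theorem z_of {u : X} (hu : u ∈ 𝒩(N)) (u1 : u ∉ N) : cf u φ (r 2) = cf s φ (r 2) := by
  rw [cf_apply, cf_apply]
  calc _ = s * (s⁻¹ * u * φ (r 2) * (s⁻¹ * u)⁻¹) * s⁻¹ := by group
    _ = _ := by rw [z_fix h.inj (h.nrm (h.ix u hu u1)), mul_inv_cancel_right]

theorem of {u : X} (hu : u ∈ 𝒩(N)) (u1 : u ∉ N) : Wr φ N u where
  two := h.two
  inj := h.inj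
  le := h.le
  nrm := h.nrm
  sN := hu
  s1 := u1
  ix := fun g hg g1 => by
    simpa [mul_assoc] using mul_mem (inv_mem (h.ix u hu u1)) (h.ix g hg g1)
  cz := h.cz
  dis := fun x y e => by
    obtain ⟨y', e'⟩ := (h.range_of hu u1).le ⟨y, rfl⟩
    exact h.dis x y' (e.trans e'.symm)
  V := by rw [h.range_of hu u1, h.z_of hu u1]; exact h.V

theorem eq2 {x y x' y' : D8} (e : φ x * cf s φ y = φ x' * cf s φ y') : x = x' ∧ y = y' := by
  have h1 : x'⁻¹ * x = 1 := h.dis _ (y' * y⁻¹) (by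
    rw [map_mul, map_mul, map_inv, map_inv, inv_mul_eq_iff_eq_mul, ← mul_assoc, ← e]; group)
  rw [inv_mul_eq_one] at h1
  subst h1
  exact ⟨rfl, h.symm.inj (mul_left_cancel e)⟩

theorem V' {v : X} (hv : v ∈ N) (h1 : v ∈ 𝒞(φ.range)) (h2 : v ∈ 𝒞((cf s φ).range)) :
    ∃ x y, (x = 1 ∨ x = r 2) ∧ (y = 1 ∨ y = r 2) ∧ v = φ x * cf s φ y := by
  rcases h.V v hv h1 h2 with rfl | rfl | rfl | rfl
  exacts [⟨1, 1, by simp⟩, ⟨r 2, 1, by simp⟩, ⟨1, r 2, by simp⟩, ⟨r 2, r 2, by simp⟩]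

theorem in2 {n : X} (hn : n ∈ N) (h1 : n ∈ In φ.range) (h2 : n ∈ In (cf s φ).range) :
    ∃ x y, n = φ x * cf s φ y := by
  obtain ⟨x, c, hc, e⟩ := mem_In.1 h1
  obtain ⟨y, c', hc', e'⟩ := mem_In.1 h2
  obtain ⟨a, b, -, -, e3⟩ := h.V' (v := (cf s φ y)⁻¹ * c) (mul_mem (inv_mem (h.le' ⟨y, rfl⟩)) (by
      rw [← inv_mul_cancel_left (φ x) c, ← e]; exact mul_mem (inv_mem (h.le ⟨x, rfl⟩)) hn))
    (mul_mem (inv_mem (mem_cent_range.2 fun x => h.cc x y)) hc) (by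
      have : (cf s φ y)⁻¹ * c = (φ x)⁻¹ * c' := by
        rw [inv_mul_eq_iff_eq_mul, ← mul_assoc, ← map_inv, ← h.cc, mul_assoc, ← e', e, map_inv,
          inv_mul_cancel_left]
      rw [this]
      exact mul_mem (inv_mem (mem_cent_range.2 fun y => (h.cc x y).symm)) hc')
  refine ⟨x * a, y * b, ?_⟩
  rw [e, inv_mul_eq_iff_eq_mul.1 e3, map_mul, map_mul, ← mul_assoc (cf s φ y), ← h.cc]
  group

theorem cent_pair {n : X} (hn : n ∈ N) {x y : D8} (e : n * (φ x * cf s φ y) = φ x * cf s φ y * n) :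
    n * φ x = φ x * n ∧ n * cf s φ y = cf s φ y * n := by
  obtain ⟨a, ha⟩ := conj_mem_of_norm h.nrm hn (⟨x, rfl⟩ : φ x ∈ φ.range)
  obtain ⟨b, hb⟩ := conj_mem_of_norm h.nrm' hn (⟨y, rfl⟩ : cf s φ y ∈ (cf s φ).range)
  obtain ⟨rfl, rfl⟩ := h.eq2 (x := a) (y := b) (x' := x) (y' := y) (by
    rw [ha, hb, conj_mul, e, mul_inv_cancel_right])
  exact ⟨(eq_mul_inv_iff_mul_eq.1 ha).symm, (eq_mul_inv_iff_mul_eq.1 hb).symm⟩

theorem zz {y : X} (hy : y ∈ 𝒩(N)) : y * φ (r 2) * y⁻¹ = φ (r 2) ∨ y * φ (r 2) * y⁻¹ = cf s φ (r 2) := by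
  by_cases c : y ∈ N
  · left; rw [z_fix h.inj (h.nrm c), mul_inv_cancel_right]
  · exact Or.inr (h.z_of hy c)

theorem tz : cf s φ (r 2) ≠ φ (r 2) := fun e => absurd (h.dis _ _ e.symm) (by decide)

theorem zt_c {y : X} (hy : y ∈ 𝒩(N)) :
    y * (φ (r 2) * cf s φ (r 2)) * y⁻¹ = φ (r 2) * cf s φ (r 2) := by
  rw [← conj_mul]
  by_cases c : y ∈ N
  · rw [z_fix h.inj (h.nrm c), z_fix h.symm.inj (h.nrm' c), mul_inv_cancel_right, mul_inv_cancel_right]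
  · rw [← cf_apply, ← cf_apply, h.z_of hy c, h.symm.z_of hy c, h.z2, h.cc]

theorem cen {c : X} (hc : c ∈ 𝒞(𝒩(N))) (c1 : c ≠ 1) : c = φ (r 2) * cf s φ (r 2) := by
  have k : ∀ y ∈ N, y * c = c * y := fun y hy => hc y (le_normalizer hy)
  have e := hc s h.sN
  rcases h.V c (h.cz (mem_cent1.2 (k _ (h.le ⟨_, rfl⟩)).symm)) (fun y hy => k y (h.le hy))
    (fun y hy => k y (h.le' hy)) with rfl | rfl | rfl | rfl
  · exact absurd rfl c1
  · exact absurd (by rw [cf_apply, e, mul_inv_cancel_right]) h.tz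
  · exact absurd (by rw [cf_apply, e, mul_inv_cancel_right]) h.symm.tz
  · rfl

/-- an element of `N` moved only by `z t` centralises `D` -/
theorem cD {a : X} (ha : a ∈ N) (k : ∀ x, φ x * a * (φ x)⁻¹ = a ∨
    φ x * a * (φ x)⁻¹ = φ (r 2) * cf s φ (r 2) * a) : a ∈ 𝒞(φ.range) := mem_cent_range.2 fun x => by
  rcases k x with e | e
  · exact mul_inv_eq_iff_eq_mul.1 e
  · obtain ⟨y, hy⟩ := conj_mem_of_norm h.nrm ha (⟨x⁻¹, rfl⟩ : φ x⁻¹ ∈ φ.range)
    have := (h.eq2 (x := x * y) (y := 1) (x' := r 2) (y' := r 2) (by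
      rw [map_one, mul_one, map_mul, hy, ← mul_inv_eq_iff_eq_mul.2 e, map_inv]; group)).2
    exact absurd this (by decide)

theorem top [Finite X] : 𝒩(N) = ⊤ := by
  by_contra hN
  have nil : Group.IsNilpotent (⊤ : Subgroup X) :=
    (isPi_of_isPGroup Nat.prime_two (h.two.to_subgroup ⊤)).nilpotent
  obtain ⟨g, hg, g1⟩ := SetLike.exists_of_lt (lt_inf_norm_of_nilpotent nil (lt_top_iff_ne_top.2 hN))
  have zN : φ (r 2) ∈ N := h.le ⟨_, rfl⟩
  have e1 : g * (φ (r 2) * cf s φ (r 2)) * g⁻¹ = φ (r 2) * cf s φ (r 2) :=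
    h.cen (conj_mem_of_norm (norm_cent le_rfl) hg.2 fun y hy => mul_inv_eq_iff_eq_mul.1 (h.zt_c hy))
      fun e => absurd (h.eq2 (x := r 2) (y := r 2) (x' := 1) (y' := 1) (by simpa using e)).1 (by decide)
  have a1 : g * φ (r 2) * g⁻¹ ∈ 𝒩(N) := conj_mem_of_norm le_rfl hg.2 (le_normalizer zN)
  generalize ha : g * φ (r 2) * g⁻¹ = a at a1
  have k : ∀ y ∈ 𝒩(N), y * a * y⁻¹ = a ∨ y * a * y⁻¹ = φ (r 2) * cf s φ (r 2) * a := fun y hy => by
    have e : y * a * y⁻¹ = g * (g⁻¹ * y * g * φ (r 2) * (g⁻¹ * y * g)⁻¹) * g⁻¹ := by rw [← ha]; group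
    rcases h.zz (conj_mem_of_norm' le_rfl hg.2 hy) with e' | e'
    · left; rw [e, e', ha]
    · right; rw [e, e', ← e1, ← ha, conj_mul, h.cc, mul_assoc (cf s φ (r 2)), z_sq, mul_one]
  by_cases c : a ∈ N
  · rcases h.V a c (h.cD c fun x => k _ (le_normalizer (h.le ⟨x, rfl⟩))) (h.symm.cD c fun x => by
      rw [h.z2, ← h.cc]; exact k _ (le_normalizer (h.le' ⟨x, rfl⟩))) with e | e | e | e
    · exact z_ne h.inj (by simpa [e] using ha)
    · exact g1 (le_normalizer (h.cz (mem_cent1.2 (mul_inv_eq_iff_eq_mul.1 (ha.trans e)))))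
    · refine g1 ((mul_mem_cancel_left (inv_mem h.sN)).1 (le_normalizer (h.cz (mem_cent1.2 ?_))))
      calc _ = s⁻¹ * (g * φ (r 2) * g⁻¹) * g := by group
        _ = _ := by rw [ha, e, cf_apply]; group
    · rw [e, ← e1, mul_left_inj, mul_right_inj, left_eq_mul] at ha
      exact z_ne h.symm.inj ha
  · obtain ⟨y, hy⟩ := (h.range_of a1 c).le ⟨sr 0, rfl⟩
    have e : φ (sr 0) * a * (φ (sr 0))⁻¹ = φ (sr 0) * cf s φ y * a := by
      rw [hy, cf_apply, ← map_inv, show (sr 0 : D8)⁻¹ = sr 0 from rfl]; group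
    rcases k _ (le_normalizer (h.le ⟨sr 0, rfl⟩)) with e' | e'
    · rw [e, mul_eq_right] at e'
      exact absurd (h.eq2 (x' := 1) (y' := 1) (by simpa using e')).1 (by decide)
    · rw [e, mul_left_inj] at e'
      exact absurd (h.eq2 e').1 (by decide)

theorem exists_inv (hs : s * s ∈ In φ.range) : ∃ u ∈ 𝒩(N), u ∉ N ∧ u * u = 1 := by
  obtain ⟨x, y, e⟩ := h.in2 h.ss hs (by
    rw [range_cf, ← cj_In, mem_cj]; simpa [mul_assoc] using hs)
  have e2 : cf s φ y = cf s φ x := by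
    obtain ⟨w, hw⟩ := h.range2.le ⟨y, rfl⟩
    refine congrArg _ (h.eq2 (x := x) (x' := w) ?_).2
    rw [← e, h.cc, hw, cf_apply (φ := cf s φ), cf_apply, conj_mul, ← e]; group
  refine ⟨(φ x)⁻¹ * s, mul_mem (inv_mem (le_normalizer (h.le ⟨x, rfl⟩))) h.sN,
    fun c => h.s1 ((mul_mem_cancel_left (inv_mem (h.le ⟨x, rfl⟩))).1 c), ?_⟩
  calc _ = (φ x)⁻¹ * (cf s φ x)⁻¹ * (s * s) := by rw [cf_apply]; group
    _ = 1 := by rw [e, e2, h.cc]; group

end Wr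

theorem q_e : ∀ x : D8, x * sr 0 = sr 0 * x → x = 1 ∨ x = r 2 ∨ x = sr 0 ∨ x = r 2 * sr 0 := by decide

theorem q_out : ∀ d : D8, d * om (sr 0) * d⁻¹ ≠ sr 0 := by decide

theorem sq_sup {A : Subgroup X} {c : X} (h : ∀ a ∈ A, a * a = 1) (c2 : c * c = 1) (hc : c ∈ 𝒞(A)) :
    ∀ a ∈ A ⊔ zpowers c, a * a = 1 := fun y hy => by
  obtain ⟨x, hx, w, hw, rfl⟩ := (mem_sup_of_norm_left (norm_of_cent (zpowers_le.2 hc))).1 hy
  rcases mem_zp c2 hw with rfl | rfl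
  · rw [mul_one, h x hx]
  · rw [← pow_two, Commute.mul_pow (hc x hx), pow_two, pow_two, c2, h x hx, mul_one]

theorem card_sup_zp [Finite X] {A : Subgroup X} {c : X} (c2 : c * c = 1) (hc : c ∈ 𝒩(A)) (c1 : c ∉ A) :
    Nat.card ↥(A ⊔ zpowers c) = Nat.card A * 2 := by
  rw [card_sup_of_disjoint (Or.inr (zpowers_le.2 hc)) (le_bot_iff.1 fun x hx =>
    (mem_zp c2 hx.2).resolve_right fun e => c1 (e ▸ hx.1)), card_zp c2 fun e => c1 (e ▸ one_mem A)]

namespace Wr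

variable {φ : D8 →* X} {N : Subgroup X} {s : X} (h : Wr φ N s) [Finite X]
include h

theorem of_inv (s2 : s * s = 1) : SectionalPRankLE 2 4 X := by
  have si : s⁻¹ = s := inv_eq_of_mul_eq_one_right s2
  let δ : D8 → X := fun x => φ x * cf s φ x
  have δm : ∀ x y, δ x * δ y = δ (x * y) := fun x y => by
    simp only [δ, map_mul]
    rw [mul_assoc, ← mul_assoc (cf s φ x), ← h.cc]; group
  have δ1 : δ 1 = 1 := by simp [δ]
  have bk : ∀ y, s * cf s φ y * s⁻¹ = φ y := fun y => by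
    rw [cf_apply, si]
    calc _ = s * s * φ y * (s * s) := by group
      _ = _ := by rw [s2]; group
  have δs : ∀ x, δ x * s = s * δ x := fun x => by
    rw [eq_comm, ← mul_inv_eq_iff_eq_mul, ← conj_mul, ← cf_apply, bk, ← h.cc]
  have δN : ∀ x, δ x ∈ N := fun x => mul_mem (h.le ⟨x, rfl⟩) (h.le' ⟨x, rfl⟩)
  have δi : ∀ x y, δ x = δ y → x = y := fun x y e => (h.eq2 e).1
  have z2 : δ (r 2) * δ (r 2) = 1 := by rw [δm, ← δ1]; rfl
  have a2 : δ (sr 0) * δ (sr 0) = 1 := by rw [δm, ← δ1]; rfl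
  have ac : δ (sr 0) ∈ 𝒞(zpowers (δ (r 2))) := by
    rw [cent_zpowers, mem_cent1, δm, δm, q_zc]
  have sc : s ∈ 𝒞(zpowers (δ (r 2)) ⊔ zpowers (δ (sr 0))) := by
    rw [cent_sup, cent_zpowers, cent_zpowers]
    exact ⟨mem_cent1.2 (δs _).symm, mem_cent1.2 (δs _).symm⟩
  have h2 := sq_sup (sq_sup (A := zpowers (δ (r 2))) (fun a ha => by
    rcases mem_zp z2 ha with rfl | rfl
    exacts [mul_one 1, z2]) a2 ac) s2 sc
  have hc := S1235.comm_of_sq h2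
  refine S1232.result h.two _ ⟨abelian_iff.2 hc, fun a ha => pow_two a ▸ h2 a ha⟩ ?_
    (le_antisymm (fun g hg => ?_) hc)
  · rw [card_sup_zp s2 (cent_le_norm _ sc) fun c => h.s1 (sup_le (zpowers_le.2 (δN _))
      (zpowers_le.2 (δN _)) c), card_sup_zp a2 (cent_le_norm _ ac) fun c => ?_,
      card_zp z2 fun e => absurd (δi _ _ (e.trans δ1.symm)) (by decide)]
    rcases mem_zp z2 c with e | e
    exacts [absurd (δi _ _ (e.trans δ1.symm)) (by decide), absurd (δi _ _ e) (by decide)]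
  have key : ∀ g ∈ 𝒞(zpowers (δ (r 2)) ⊔ zpowers (δ (sr 0)) ⊔ zpowers s), g ∈ N →
      g ∈ zpowers (δ (r 2)) ⊔ zpowers (δ (sr 0)) := fun g hg hN => by
    obtain ⟨e1, e2⟩ := h.cent_pair hN (hg _ (mem_sup_left (mem_sup_right (mem_zpowers _)))).symm
    have k : ∀ {ψ : D8 →* X}, Function.Injective ψ → g ∈ 𝒩(ψ.range) → g * ψ (sr 0) = ψ (sr 0) * g →
        g ∈ In ψ.range := fun hψ hn e => (act_cases hψ hn).resolve_right fun ⟨d, a⟩ =>
      q_out d (hψ ((a _).symm.trans (by rw [e, mul_inv_cancel_right])))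
    obtain ⟨x, y, rfl⟩ := h.in2 hN (k h.inj (h.nrm hN) e1) (k h.symm.inj (h.nrm' hN) e2)
    have e3 := hg s (mem_sup_right (mem_zpowers s))
    obtain rfl : x = y := (h.eq2 (x' := y) (y' := x) (y := y) (by
      rw [← mul_inv_cancel_right (φ x * _) s, ← e3, ← conj_mul, ← cf_apply, bk, ← h.cc])).1
    rw [mul_assoc, ← h.cc, ← mul_assoc, ← mul_assoc, mul_left_inj, ← map_mul, ← map_mul] at e1
    change δ x ∈ _
    rcases q_e x (h.inj e1) with rfl | rfl | rfl | rfl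
    · rw [δ1]; exact one_mem _
    · exact mem_sup_left (mem_zpowers _)
    · exact mem_sup_right (mem_zpowers _)
    · rw [← δm]; exact mul_mem (mem_sup_left (mem_zpowers _)) (mem_sup_right (mem_zpowers _))
  by_cases c : g ∈ N
  · exact mem_sup_left (key g hg c)
  · have m : s ∈ zpowers (δ (r 2)) ⊔ zpowers (δ (sr 0)) ⊔ zpowers s := mem_sup_right (mem_zpowers s)
    exact (mul_mem_cancel_left (inv_mem m)).1 (mem_sup_left (key _ (mul_mem (inv_mem (hc m)) hg)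
      (h.ix g (h.top ▸ mem_top g) c)))

theorem main : SectionalPRankLE 2 4 X := by
  by_cases c : ∃ u, u ∉ N ∧ u * u ∈ In φ.range
  · obtain ⟨u, u1, hu⟩ := c
    obtain ⟨w, hw, w1, w2⟩ := (h.of (h.top ▸ mem_top u) u1).exists_inv hu
    exact (h.of hw w1).of_inv w2
  push Not at c
  refine S0501.result h.two fun A hA _ h2 => ?_
  have h2' : ∀ a ∈ A, a * a = 1 := fun a ha => pow_two a ▸ h2 a ha
  have nA : ∀ Y : Subgroup X, Y ≤ 𝒩(A) := fun Y => le_top.trans (normal_iff_top_le_norm.1 hA)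
  obtain ⟨d, a1⟩ := (act_cases h.inj (h.nrm h.ss)).resolve_left (c s h.s1)
  obtain ⟨e, a2⟩ := (act_cases h.symm.inj (h.nrm' h.ss)).resolve_left fun k => c s h.s1 (by
    rw [range_cf, ← cj_In, mem_cj] at k; simpa [mul_assoc] using k)
  have z2 := z_sq (φ := φ)
  have t2 := z_sq (φ := cf s φ)
  refine (card_le_of_le (K := zpowers (φ (r 2)) ⊔ zpowers (cf s φ (r 2))) fun a ha => ?_).trans ?_
  · have hN : a ∈ N := by_contra fun k => c a k (h2' a ha ▸ one_mem _)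
    obtain ⟨x, y, rfl⟩ := h.in2 hN (in_of_elem h.inj (nA _) h2' ha (h.nrm hN))
      (in_of_elem h.symm.inj (nA _) h2' ha (h.nrm' hN))
    have m : ∀ x y x' y', φ x * cf s φ y * (φ x' * cf s φ y') = φ (x * x') * cf s φ (y * y') :=
      fun x y x' y' => by
        rw [map_mul, map_mul, mul_assoc, ← mul_assoc (cf s φ y), ← h.cc]; group
    have e1 := h2' _ ha
    rw [m] at e1
    obtain ⟨x2, y2⟩ := h.eq2 (x' := 1) (y' := 1) (e1.trans (by simp))
    have e2 := S1235.comm_of_sq h2' (hA.conj_mem _ ha (s * s)) _ ha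
    rw [← conj_mul, a1, a2, m, m] at e2
    obtain ⟨x3, y3⟩ := h.eq2 e2
    refine mul_mem (mem_sup_left ?_) (mem_sup_right ?_)
    · rcases q_omz d x x2 x3 with rfl | rfl
      exacts [map_one φ ▸ one_mem _, mem_zpowers _]
    · rcases q_omz e y y2 y3 with rfl | rfl
      exacts [map_one (cf s φ) ▸ one_mem _, mem_zpowers _]
  · refine (Nat.le_of_dvd (Nat.mul_pos (card_pos' _) (card_pos' _)) (card_sup_dvd (Or.inl
      (norm_of_cent (zpowers_le.2 ?_))))).trans ?_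
    · rw [cent_zpowers, mem_cent1, h.cc]
    · rw [card_zp z2 (z_ne h.inj), card_zp t2 (z_ne h.symm.inj)]

end Wr

end Cfsg.Agent.DHR
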